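import Cfsg.Agent.H853.SR.Cor
import Cfsg.Agent.H4.SR.Sum
import Cfsg.Agent.H807.SR.Tool
import Cfsg.Agent.H559.SR.PieceB
import Cfsg.Agent.H388.SR.G1c

/-!
# TEAM SR, SR-O4: from the theorem on pieces to the decomposition (helper853)

`HypA`, `HypE`, `HypJ` : the results of the tasks OODD_A, OODD_E, OODD_J.
-/

set_option autoImplicit false

namespace Cfsg.Agent.H853.SR

open Polynomial Module QuadraticMap
open Cfsg.Agent.LieClassical.OrthCore Cfsg.Agent.H160.QSpin Cfsg.Agent.H160.QDisc Cfsg.Agent.H721.SR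

universe u v

section even

variable {F : Type u} [Field F] {V : Type v} [AddCommGroup V] [Module F V]

theorem st_of {Q : QuadraticForm F V} (hQ : Nondeg Q) {g : V ≃ₗ[F] V} (hg : g ∈ O Q) :
    St (polarBilin Q) 1 g where
  eps := Or.inl rfl
  symm x y := by rw [one_mul]; exact polar_comm _ _ _
  nondeg x hx := hQ x hx
  isom x y := polar_map hg x y

open Cfsg.Agent.H807.SR in
theorem P_eigen {g : V ≃ₗ[F] V} {x : V} {σ : F} (hx : g x = σ • x) (p : F[X]) : P g p x = p.eval σ • x := by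
  induction p using Polynomial.induction_on' with
  | add p q hp hq => rw [P_add, hp, hq, eval_add, add_smul]
  | monomial n c =>
    rw [← C_mul_X_pow_eq_monomial, P_mul, P_C, P_X_pow, eval_mul, eval_C, eval_pow, eval_X, mul_smul]
    congr 1
    induction n with
    | zero => simp
    | succ n ih =>
      rw [pow_succ', pow_succ', mul_smul]
      show g ((g ^ n) x) = _
      rw [ih, map_smul, hx, smul_smul, smul_smul, mul_comm]

theorem eval_ne {f : F[X]} (hf : Irreducible f) {σ : F} (h : ¬ Associated f (X - C σ)) : f.eval σ ≠ 0 := by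
  intro h0
  apply h
  exact ((irreducible_X_sub_C σ).associated_of_dvd hf (dvd_iff_isRoot.2 h0)).symm

theorem reverse_eval_ne {p : F[X]} {σ : F} (hσ : σ = 1 ∨ σ = -1) (h : p.eval σ ≠ 0) : p.reverse.eval σ ≠ 0 := by
  have hσ0 : σ ≠ 0 := by
    rcases hσ with rfl | rfl
    · exact one_ne_zero
    · exact neg_ne_zero.2 one_ne_zero
  have hinv : σ⁻¹ = σ := by
    rcases hσ with rfl | rfl
    · exact inv_one
    · rw [inv_neg, inv_one]
  let _ : Invertible σ := invertibleOfNonzero hσ0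
  have h1 := (eval₂_reverse_eq_zero_iff (RingHom.id F) σ p).not.2 h
  rwa [invOf_eq_inv, hinv] at h1

open Cfsg.Agent.H807.SR in
theorem noeigen_c [FiniteDimensional F V] {B : V →ₗ[F] V →ₗ[F] F} {g : V ≃ₗ[F] V} {f : F[X]} {k : ℕ} {v : V}
    (hp : CPiece B g f k v) (ht : cyc g v = ⊤) {σ : F} (h : ¬ Associated f (X - C σ)) {x : V} (hx : g x = σ • x) :
    x = 0 := by
  obtain ⟨p, rfl⟩ := (mem_cyc g).1 (by rw [ht]; trivial : x ∈ cyc g v)
  have h1 : P g (f ^ k) (P g p v) = 0 := by rw [P_comm, ann_zero hp.ann, map_zero]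
  rw [P_eigen hx, eval_pow] at h1
  exact (smul_eq_zero.1 h1).resolve_left (pow_ne_zero _ (eval_ne hp.irr h))

open Cfsg.Agent.H807.SR in
theorem noeigen_p [FiniteDimensional F V] {B : V →ₗ[F] V →ₗ[F] F} {g : V ≃ₗ[F] V} {f : F[X]} {k : ℕ} {v w : V}
    (hp : PPiece B g f k v w) (ht : cyc g v ⊔ cyc g w = ⊤) {σ : F} (hσ : σ = 1 ∨ σ = -1)
    (h : ¬ Associated f (X - C σ)) {x : V} (hx : g x = σ • x) : x = 0 := by
  obtain ⟨y, hy, z, hz, rfl⟩ := Submodule.mem_sup.1 (by rw [ht]; trivial : x ∈ cyc g v ⊔ cyc g w)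
  have h1 : P g (f ^ k) y = 0 := by
    obtain ⟨p, rfl⟩ := (mem_cyc g).1 hy
    rw [P_comm, ann_zero hp.annv, map_zero]
  have h2 : P g (f ^ k).reverse z = 0 := by
    obtain ⟨p, rfl⟩ := (mem_cyc_inv g).1 hz
    rw [P_reverse_eq_zero, P_comm, ann_zero hp.annw, map_zero]
  have h3 : P g ((f ^ k) * (f ^ k).reverse) (y + z) = 0 := by
    rw [map_add, P_mul, P_mul, P_comm, h1, map_zero, h2, map_zero, add_zero]
  rw [P_eigen hx, eval_mul] at h3
  have h4 : (f ^ k).eval σ ≠ 0 := by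
    rw [eval_pow]
    exact pow_ne_zero _ (eval_ne hp.irr h)
  exact (smul_eq_zero.1 h3).resolve_left (mul_ne_zero h4 (reverse_eval_ne hσ h4))

/-- if `g` has no eigenvalue `±1` the dimension is even -/
theorem even_of_noeigen [FiniteDimensional F V] {Q : QuadraticForm F V} (hQ : Nondeg Q) {g : V ≃ₗ[F] V}
    (hg : g ∈ O Q) (h1 : ∀ x, g x = x → x = 0) (h2 : ∀ x, g x = -x → x = 0) : Even (finrank F V) := by
  set S : V →ₗ[F] V := (g : V →ₗ[F] V) - ((g⁻¹ : V ≃ₗ[F] V) : V →ₗ[F] V) with hS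
  let A : LinearMap.BilinForm F V := LinearMap.BilinForm.compRight (polarBilin Q) S
  have hAap : ∀ x y, A x y = polar Q x (g y) - polar Q x (g⁻¹ y) := by
    intro x y
    show polar Q x (g y - g⁻¹ y) = _
    rw [polar_sub_right]
  have hA : A.IsAlt := by
    intro x
    rw [hAap]
    have h1 : polar Q x (g⁻¹ x) = polar Q (g x) x := by
      rw [← polar_map hg]
      congr 1
      exact g.apply_symm_apply x
    rw [h1, polar_comm Q (g x) x, sub_self]
  have hinj : Function.Injective S := by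
    rw [← LinearMap.ker_eq_bot, LinearMap.ker_eq_bot']
    intro x hx
    have h3 : g x = g⁻¹ x := sub_eq_zero.1 hx
    have h4 : g (g x) = x := by rw [h3]; exact g.apply_symm_apply x
    have h5 : g x + x = 0 := h1 _ (by rw [map_add, h4, add_comm])
    exact h2 x (eq_neg_of_add_eq_zero_left h5)
  have hSsurj : Function.Surjective S := LinearMap.injective_iff_surjective.1 hinj
  have hnd : ∀ u, (∀ v, A u v = 0) → u = 0 := by
    intro u hu
    apply hQ
    intro y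
    obtain ⟨v, rfl⟩ := hSsurj y
    exact hu v
  obtain ⟨k, hk⟩ := Cfsg.Agent.H194.NilForm.even_of_isAlt A hA hnd
  exact ⟨k, by omega⟩

end even

/-! ### the hypotheses -/

section hyps

/-- the result of the task OODD_A -/
def HypA (F : Type u) [Field F] : Prop :=
  ∀ (V : Type v) [AddCommGroup V] [Module F V] [FiniteDimensional F V] [Finite V] (Q : QuadraticForm F V)
    (g : V ≃ₗ[F] V) (f : F[X]) (k d : ℕ), Nondeg Q → g ∈ O Q → Odd k → finrank F V = 2 * d →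
    ((∃ v, CPiece (polarBilin Q) g f k v ∧ cyc g v = ⊤ ∧ Associated f f.reverse ∧ ¬ Associated f (X - 1) ∧
        ¬ Associated f (X + 1)) ∨
      (∃ v w, PPiece (polarBilin Q) g f k v w ∧ cyc g v ⊔ cyc g w = ⊤ ∧ ¬ Associated f f.reverse)) →
    ∀ s : ℤˣ, Cfsg.Agent.H721.SR.T Q g ((-1) ^ d) s

/-- the result of the task OODD_E -/
def HypE (F : Type u) [Field F] [Fintype F] [DecidableEq F] : Prop :=
  ∀ (V : Type v) [AddCommGroup V] [Module F V] [FiniteDimensional F V] [Finite V] (Q : QuadraticForm F V)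
    (g : V ≃ₗ[F] V) (f : F[X]) (k : ℕ), Nondeg Q → g ∈ O Q → Even k →
    ((∃ v, CPiece (polarBilin Q) g f k v ∧ cyc g v = ⊤ ∧ Associated f f.reverse ∧ ¬ Associated f (X - 1) ∧
        ¬ Associated f (X + 1)) ∨
      (∃ v w, PPiece (polarBilin Q) g f k v w ∧ cyc g v ⊔ cyc g w = ⊤ ∧
        (¬ Associated f f.reverse ∨ ∃ σ : F, (σ = 1 ∨ σ = -1) ∧ f = X - C σ))) →
    ∃ j : ℕ, finrank F V = 4 * j ∧ dc Q = 1 ∧ Cfsg.Agent.H721.SR.T Q g 1 (ch F ^ j)

/-- the result of the task OODD_J: the sign -/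
def HypJT (F : Type u) [Field F] : Prop :=
  ∀ (V : Type v) [AddCommGroup V] [Module F V] [FiniteDimensional F V] [Finite V] (Q : QuadraticForm F V)
    (g : V ≃ₗ[F] V) (σ : F) (a : ℕ) (v : V), Nondeg Q → g ∈ O Q → (σ = 1 ∨ σ = -1) → Odd a →
    CPiece (polarBilin Q) g (X - C σ) a v → cyc g v = ⊤ →
    finrank F V = a ∧ Cfsg.Agent.H721.SR.T Q g 1 (ch F ^ ((a ^ 2 - 1) / 8))

/-- the result of the task OODD_J: uniqueness -/
def HypJU (F : Type u) [Field F] [Fintype F] [DecidableEq F] : Prop :=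
  ∀ (V W : Type v) [AddCommGroup V] [Module F V] [FiniteDimensional F V] [Finite V]
    [AddCommGroup W] [Module F W] [FiniteDimensional F W] [Finite W] (Q : QuadraticForm F V)
    (Q' : QuadraticForm F W) (g : V ≃ₗ[F] V) (g' : W ≃ₗ[F] W) (σ : F) (a : ℕ) (v : V) (v' : W),
    Nondeg Q → Nondeg Q' → g ∈ O Q → g' ∈ O Q' → (σ = 1 ∨ σ = -1) → Odd a →
    CPiece (polarBilin Q) g (X - C σ) a v → cyc g v = ⊤ →
    CPiece (polarBilin Q') g' (X - C σ) a v' → cyc g' v' = ⊤ → dc Q = dc Q' →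
    ∃ e : V ≃ₗ[F] W, IsIso Q Q' e ∧ cj e g = g'

end hyps

section bridge

variable {F : Type u} [Field F]

/-- the scalar of a sign -/
def sg (F : Type u) [Field F] (σ : ℤˣ) : F := ((σ : ℤ) : F)

theorem sg_or (σ : ℤˣ) : sg F σ = 1 ∨ sg F σ = -1 := by
  rcases Int.units_eq_one_or σ with rfl | rfl
  · left; simp [sg]
  · right; simp [sg]

theorem exists_sg {σ : F} (h : σ = 1 ∨ σ = -1) : ∃ t : ℤˣ, sg F t = σ := by
  rcases h with rfl | rfl
  · exact ⟨1, by simp [sg]⟩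
  · exact ⟨-1, by simp [sg]⟩

theorem polar_smul_form {V : Type*} [AddCommGroup V] [Module F V] (Q : QuadraticForm F V) (d : F) (x y : V) :
    polar (d • Q) x y = d * polar Q x y := by
  simp only [QuadraticMap.polar, smul_eq_mul, _root_.smul_apply]
  ring

theorem self_recip {f : F[X]} (hf : Irreducible f) {σ : F} (hσ : σ = 1 ∨ σ = -1)
    (h : Associated f (X - C σ)) : Associated f f.reverse := by
  have h0 : f.eval σ = 0 := by
    have : (X - C σ) ∣ f := h.symm.dvd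
    exact dvd_iff_isRoot.1 this
  have h1 : f.reverse.eval σ = 0 := by
    by_contra hne
    have hσ0 : σ ≠ 0 := by
      rcases hσ with rfl | rfl
      · exact one_ne_zero
      · exact neg_ne_zero.2 one_ne_zero
    have hinv : σ⁻¹ = σ := by
      rcases hσ with rfl | rfl
      · exact inv_one
      · rw [inv_neg, inv_one]
    let _ : Invertible σ := invertibleOfNonzero hσ0
    have h1 := (eval₂_reverse_eq_zero_iff (RingHom.id F) σ f).2 h0
    rw [invOf_eq_inv, hinv] at h1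
    exact hne h1
  have h2 : f ∣ f.reverse := h.dvd.trans (dvd_iff_isRoot.2 h1)
  refine associated_of_dvd_of_natDegree_le h2 ?_ (reverse_natDegree_le f)
  intro h0
  exact hf.ne_zero (by simpa using h0)

/-- the concrete `J` pieces -/
def PJ (X : Tri.{u, v} F) (a : ℕ) (σ : ℤˣ) : Prop :=
  Odd a ∧ ∃ v, CPiece (polarBilin X.Q) X.g (Polynomial.X - C (sg F σ)) a v ∧ cyc X.g v = ⊤

theorem jHyp [Fintype F] [DecidableEq F] (hT : HypJT.{u, v} F) (hU : HypJU.{u, v} F) :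
    JHyp (PJ.{u, v} (F := F)) where
  odd := fun X a σ h => h.1
  dim := by
    rintro X a σ ⟨ho, v, hp, ht⟩
    exact (hT X.V X.Q X.g (sg F σ) a v X.nd X.iso (sg_or σ) ho hp ht).1
  tt := by
    rintro X a σ ⟨ho, v, hp, ht⟩
    exact (hT X.V X.Q X.g (sg F σ) a v X.nd X.iso (sg_or σ) ho hp ht).2
  uniq := by
    rintro X Y a σ ⟨ho, v, hp, ht⟩ ⟨ho', v', hp', ht'⟩ hc
    refine hU X.V Y.V X.Q Y.Q X.g Y.g (sg F σ) a v v' X.nd Y.nd X.iso Y.iso (sg_or σ) ho hp ht hp' ht' ?_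
    rw [← Tri.coe_c, ← Tri.coe_c, hc]
  smul := by
    rintro X a σ d hd ⟨ho, v, hp, ht⟩
    refine ⟨ho, v, ⟨hp.irr, hp.pos, hp.ann, ?_⟩, ht⟩
    intro x hx h
    refine hp.nd x hx fun y hy => ?_
    have h1 : polar (d • X.Q) x y = 0 := h y hy
    exact (mul_eq_zero.1 ((polar_smul_form X.Q d x y).symm.trans h1)).resolve_left hd

/-- splitting off a piece -/
theorem split_tri (X : Tri.{u, v} F) {U : Submodule F X.V} (hU : NdOn (polarBilin X.Q) U)
    (hgU : ∀ x ∈ U, X.g x ∈ U) (h0 : U ≠ ⊥) :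
    ∃ (g₁ : U ≃ₗ[F] U) (hn : Nondeg (Cfsg.Agent.H4.SR.rs X.Q U)) (hi : g₁ ∈ O (Cfsg.Agent.H4.SR.rs X.Q U))
      (X' : Tri.{u, v} F), Tri.Iso X (Tri.sum ⟨U, Cfsg.Agent.H4.SR.rs X.Q U, g₁, hn, hi⟩ X') ∧
      (∀ x, (g₁ x : X.V) = X.g x) ∧ 0 < finrank F U := by
  obtain ⟨g₁, g₂, e, he, hge, h1, h2, n1, n2, i1, i2, -⟩ := Cfsg.Agent.H4.SR.split_perp X.nd X.iso hU hgU
  refine ⟨g₁, n1, i1, ⟨Cfsg.Agent.H4.SR.perp X.Q U, Cfsg.Agent.H4.SR.rs X.Q _, g₂, n2, i2⟩,
    Tri.Iso.symm ⟨e, he, hge.symm⟩, h1, ?_⟩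
  rw [Module.finrank_pos_iff]
  exact (Submodule.nontrivial_iff_ne_bot).2 h0

theorem assoc_one {f : F[X]} (h : ¬ Associated f (X - 1)) : ¬ Associated f (X - C (1 : F)) := by
  rwa [C_1]

theorem assoc_neg {f : F[X]} (h : ¬ Associated f (X + 1)) : ¬ Associated f (X - C (-1 : F)) := by
  rwa [C_neg, C_1, sub_neg_eq_add]

/-- **every triple of positive dimension splits off a piece** -/
theorem exists_piece [Fintype F] [DecidableEq F] (h2 : (2 : F) ≠ 0) (hA : HypA.{u, v} F) (hE : HypE.{u, v} F)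
    (X : Tri.{u, v} F) (hX : 0 < X.n) :
    ∃ P X' : Tri.{u, v} F, Tri.Iso X (P.sum X') ∧ 0 < P.n ∧ Piece PJ P := by
  have hS := st_of X.nd X.iso
  -- the two kinds of pieces
  have hc : ∀ (f : F[X]) (k : ℕ) (v : X.V), CPiece (polarBilin X.Q) X.g f k v →
      ((Associated f f.reverse ∧ ¬ Associated f (Polynomial.X - 1) ∧ ¬ Associated f (Polynomial.X + 1)) ∨
        (∃ σ : F, (σ = 1 ∨ σ = -1) ∧ f = Polynomial.X - C σ) ∧ Odd k) →
      ∃ P X' : Tri.{u, v} F, Tri.Iso X (P.sum X') ∧ 0 < P.n ∧ Piece PJ P := by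
    intro f k v hp hcase
    obtain ⟨g₁, hn, hi, X', hiso, hg, hpos⟩ := split_tri X hp.nd (Cfsg.Agent.H4.SR.cyc_inv X.g v) (by
      intro h0
      have hv := Cfsg.Agent.H4.SR.self_mem_cyc X.g v
      rw [h0, Submodule.mem_bot] at hv
      subst hv
      have h1 := (hp.ann 1).1 (map_zero _)
      exact hp.irr.not_isUnit (isUnit_pow_iff hp.pos.ne' |>.1 (isUnit_of_dvd_one h1)))
    obtain ⟨hp', ht'⟩ := Cfsg.Agent.H4.SR.cpiece_restrict hp hg
    refine ⟨_, X', hiso, hpos, ?_⟩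
    rcases hcase with ⟨hr, hm, hpl⟩ | ⟨⟨σ, hσ, rfl⟩, ho⟩
    · rcases Nat.even_or_odd k with hk | hk
      · obtain ⟨j, e1, e2, e3⟩ := hE _ _ g₁ f k hn hi hk (Or.inl ⟨_, hp', ht', hr, hm, hpl⟩)
        refine Or.inr (Or.inl ⟨j, e1, ?_, e3⟩)
        apply Units.ext
        rw [Tri.coe_c]
        exact e2
      · left
        obtain ⟨d, hd⟩ := even_of_noeigen hn hi
          (fun x hx => noeigen_c hp' ht' (assoc_one hm) (by rw [hx, one_smul]))
          (fun x hx => noeigen_c hp' ht' (assoc_neg hpl) (by rw [hx, neg_one_smul]))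
        rw [← two_mul] at hd
        exact ⟨d, hd, hA _ _ g₁ f k d hn hi hk hd (Or.inl ⟨_, hp', ht', hr, hm, hpl⟩)⟩
    · obtain ⟨t, ht⟩ := exists_sg hσ
      exact Or.inr (Or.inr ⟨k, t, ho, _, by rw [ht]; exact hp', ht'⟩)
  have hpp : ∀ (f : F[X]) (k : ℕ) (v w : X.V), PPiece (polarBilin X.Q) X.g f k v w →
      (¬ Associated f f.reverse ∨ (∃ σ : F, (σ = 1 ∨ σ = -1) ∧ f = Polynomial.X - C σ) ∧ Even k) →
      ∃ P X' : Tri.{u, v} F, Tri.Iso X (P.sum X') ∧ 0 < P.n ∧ Piece PJ P := by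
    intro f k v w hp hcase
    obtain ⟨g₁, hn, hi, X', hiso, hg, hpos⟩ := split_tri X hp.nd (Cfsg.Agent.H4.SR.sup_cyc_inv X.g v w) (by
      intro h0
      have hv : v ∈ cyc X.g v ⊔ cyc X.g w := Submodule.mem_sup_left (Cfsg.Agent.H4.SR.self_mem_cyc X.g v)
      rw [h0, Submodule.mem_bot] at hv
      subst hv
      have h1 := (hp.annv 1).1 (map_zero _)
      exact hp.irr.not_isUnit (isUnit_pow_iff hp.pos.ne' |>.1 (isUnit_of_dvd_one h1)))
    obtain ⟨hv, hw, hp', ht'⟩ := Cfsg.Agent.H4.SR.ppiece_restrict hp rfl hg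
    refine ⟨_, X', hiso, hpos, ?_⟩
    rcases Nat.even_or_odd k with hk | hk
    · obtain ⟨j, e1, e2, e3⟩ := hE _ _ g₁ f k hn hi hk
        (Or.inr ⟨_, _, hp', ht', hcase.imp_right fun h => h.1⟩)
      refine Or.inr (Or.inl ⟨j, e1, ?_, e3⟩)
      apply Units.ext
      rw [Tri.coe_c]
      exact e2
    · rcases hcase with hr | ⟨-, hk'⟩
      · left
        have hne : ∀ σ : F, σ = 1 ∨ σ = -1 → ¬ Associated f (Polynomial.X - C σ) :=
          fun σ hσ h => hr (self_recip hp.irr hσ h)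
        obtain ⟨d, hd⟩ := even_of_noeigen hn hi
          (fun x hx => noeigen_p hp' ht' (Or.inl rfl) (hne 1 (Or.inl rfl)) (by rw [hx, one_smul]))
          (fun x hx => noeigen_p hp' ht' (Or.inr rfl) (hne (-1) (Or.inr rfl)) (by rw [hx, neg_one_smul]))
        rw [← two_mul] at hd
        exact ⟨d, hd, hA _ _ g₁ f k d hn hi hk hd (Or.inr ⟨_, _, hp', ht', hr⟩)⟩
      · exact absurd hk' (Nat.not_even_iff_odd.2 hk)
  -- an irreducible factor of the minimal polynomial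
  have hnt : Nontrivial X.V := Module.finrank_pos_iff.1 hX
  have hnu : ¬ IsUnit (minpoly F (X.g : X.V →ₗ[F] X.V)) := minpoly.not_isUnit F _
  have hn0 : minpoly F (X.g : X.V →ₗ[F] X.V) ≠ 0 := minpoly.ne_zero (LinearMap.isIntegral _)
  obtain ⟨f, hf, hd⟩ := WfDvdMonoid.exists_irreducible_factor hnu hn0
  have hlin : ∀ σ : F, σ = 1 ∨ σ = -1 → Associated f (Polynomial.X - C σ) →
      ∃ P X' : Tri.{u, v} F, Tri.Iso X (P.sum X') ∧ 0 < P.n ∧ Piece PJ P := by
    intro σ hσ h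
    have hne1 : (1 : F) ≠ -1 := by
      intro h1
      apply h2
      linear_combination h1
    rcases Cfsg.Agent.H388.SR.g1c h2 hS hσ (h.symm.dvd.trans hd) with ⟨k, v, hp, hk⟩ | ⟨k, v, w, hp, hk⟩
    · refine hc _ k v hp (Or.inr ⟨⟨σ, hσ, rfl⟩, ?_⟩)
      rcases Nat.even_or_odd k with he | ho
      · exfalso
        rw [he.add_one.neg_one_pow] at hk
        exact hne1 hk
      · exact ho
    · refine hpp _ k v w hp (Or.inr ⟨⟨σ, hσ, rfl⟩, ?_⟩)
      rcases Nat.even_or_odd k with he | ho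
      · exact he
      · exfalso
        rw [ho.neg_one_pow] at hk
        exact hne1 hk
  by_cases hr : Associated f f.reverse
  · by_cases hm : Associated f (Polynomial.X - 1)
    · exact hlin 1 (Or.inl rfl) (by rwa [C_1])
    · by_cases hpl : Associated f (Polynomial.X + 1)
      · exact hlin (-1) (Or.inr rfl) (by rwa [C_neg, C_1, sub_neg_eq_add])
      · obtain ⟨k, v, hp⟩ := Cfsg.Agent.H559.SR.exists_cpiece hS hf hd hr hm hpl
        exact hc f k v hp (Or.inl ⟨hr, hm, hpl⟩)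
  · obtain ⟨k, v, w, hp⟩ := Cfsg.Agent.H807.SR.exists_ppiece hS hf hd hr
    exact hpp f k v w hp (Or.inl hr)

/-! ### the results for quadratic spaces -/

section final

variable [Fintype F] [DecidableEq F]

/-- **SR-O4, all corollaries together**: the form used by the orthogonal rows -/
theorem dec (h2 : (2 : F) ≠ 0) (hA : HypA.{u, v} F) (hE : HypE.{u, v} F) (hT : HypJT.{u, v} F)
    (hU : HypJU.{u, v} F) (V : Type v) [AddCommGroup V] [Module F V] [Finite V] (Q : QuadraticForm F V)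
    (hQ : Nondeg Q) (hn : Odd (finrank F V) ∨ 4 ∣ finrank F V)
    (hc : quadraticChar F (-1) = 1 ∨ (4 ∣ finrank F V ∧ dc Q = -1) ∨ finrank F V = 8 ∨ finrank F V = 9)
    (g : V ≃ₗ[F] V) (hg : g ∈ O Q) : Cfsg.Agent.H721.SR.T Q g 1 1 := by
  have hJ := jHyp.{u, v} hT hU
  have hP := exists_piece.{u, v} h2 hA hE
  let X : Tri.{u, v} F := ⟨V, Q, g, hQ, hg⟩
  rcases hc with hc | ⟨h4, hc⟩ | hc
  · have h1 : (-1 : F) ≠ 0 := neg_ne_zero.2 one_ne_zero
    exact t_of_ch h2 hJ hP X hn ((quadraticChar_one_iff_isSquare h1).1 hc)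
  · refine t_of_neg h2 hJ hP X h4 ?_
    apply Units.ext
    rw [Tri.coe_c]
    exact hc
  · exact t_of_small h2 hJ hP X hc

end final

end bridge

end Cfsg.Agent.H853.SR
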