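import Cfsg.Agent.H853.SR.Dec

/-!
# TEAM SR, decomposition of an isometry of an orthogonal space (SR-O4): the corollaries (helper853)
-/

set_option autoImplicit false

namespace Cfsg.Agent.H853.SR

open Module QuadraticMap
open Cfsg.Agent.LieClassical.OrthCore Cfsg.Agent.H160.QSpin Cfsg.Agent.H160.QDisc

universe u v

variable {F : Type u} [Field F] [Fintype F] [DecidableEq F]

open Tri

variable {PJ : Tri.{u, v} F → ℕ → ℤˣ → Prop}

/-- **corollary 1**: `-1` is a square -/
theorem t_of_ch (h2 : (2 : F) ≠ 0) (hJ : JHyp PJ)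
    (hP : ∀ X : Tri.{u, v} F, 0 < X.n → ∃ P X' : Tri.{u, v} F, Iso X (P.sum X') ∧ 0 < P.n ∧ Piece PJ P)
    (X : Tri.{u, v} F) (hn : Odd X.n ∨ 4 ∣ X.n) (hch : IsSquare (-1 : F)) : X.T 1 1 := by
  rcases main h2 hJ hP X hn with h | ⟨c, j, L, -, h⟩
  · exact h
  · have h1 := h.t h2 hJ
    have h3 : ch F = 1 := if_pos hch
    rwa [h3, one_pow] at h1

/-- **corollary 2**: dimension divisible by four, class `-1` -/
theorem t_of_neg (h2 : (2 : F) ≠ 0) (hJ : JHyp PJ)
    (hP : ∀ X : Tri.{u, v} F, 0 < X.n → ∃ P X' : Tri.{u, v} F, Iso X (P.sum X') ∧ 0 < P.n ∧ Piece PJ P)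
    (X : Tri.{u, v} F) (hn : 4 ∣ X.n) (hc : X.c = -1) : X.T 1 1 := by
  rcases main h2 hJ hP X (Or.inr hn) with h | ⟨c, j, L, -, h⟩
  · exact h
  · exfalso
    have h1 := sum_fst_odd (h.odd hJ)
    have h3 := h.dim hJ
    have h4 : L.length % 2 = 0 := by omega
    have h5 := h.cls
    rw [hc] at h5
    obtain ⟨k, hk⟩ := Nat.even_iff.2 h4
    rw [hk, ← two_mul, pow_mul, pow_two, Int.units_mul_self, one_pow] at h5
    exact absurd h5 (by decide)

/-- the number of entries with first component `a` -/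
def cnt (a : ℕ) (L : List (ℕ × ℤˣ)) : ℕ := (L.filter fun p => p.1 = a).length

theorem cnt_cons (a : ℕ) (p : ℕ × ℤˣ) (L : List (ℕ × ℤˣ)) :
    cnt a (p :: L) = (if p.1 = a then 1 else 0) + cnt a L := by
  unfold cnt
  by_cases h : p.1 = a
  · rw [List.filter_cons_of_pos (by simpa using h), List.length_cons, if_pos h, add_comm]
  · rw [List.filter_cons_of_neg (by simpa using h), if_neg h, zero_add]

theorem cnt_le {a : ℕ} {L : List (ℕ × ℤˣ)} (hL : L.Nodup) : cnt a L ≤ 2 := by
  unfold cnt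
  have h1 : ((L.filter fun p => p.1 = a).map Prod.snd).Nodup := by
    apply List.Nodup.map_on _ (hL.filter _)
    intro x hx y hy hxy
    have hx1 : x.1 = a := by simpa using (List.mem_filter.1 hx).2
    have hy1 : y.1 = a := by simpa using (List.mem_filter.1 hy).2
    exact Prod.ext (hx1.trans hy1.symm) hxy
  have h3 := h1.length_le_card
  rw [List.length_map] at h3
  exact h3

theorem sum_cnt {L : List (ℕ × ℤˣ)} (h : ∀ p ∈ L, Odd p.1) (h' : (L.map Prod.fst).sum ≤ 9) :
    (L.map Prod.fst).sum = cnt 1 L + 3 * cnt 3 L + 5 * cnt 5 L + 7 * cnt 7 L + 9 * cnt 9 L ∧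
      ex L = cnt 3 L + 3 * cnt 5 L + 6 * cnt 7 L + 10 * cnt 9 L := by
  induction L with
  | nil => exact ⟨rfl, rfl⟩
  | cons p L ih =>
    rw [List.map_cons, List.sum_cons] at h' ⊢
    obtain ⟨h1, h2⟩ := ih (fun q hq => h q (List.mem_cons_of_mem _ hq)) (by omega)
    obtain ⟨k, hk⟩ := h p List.mem_cons_self
    have hk4 : k ≤ 4 := by omega
    rw [ex_cons, cnt_cons, cnt_cons, cnt_cons, cnt_cons, cnt_cons]
    interval_cases k
    all_goals
      simp only [mul_zero, zero_add, mul_one, Nat.reduceMul, Nat.reduceAdd] at hk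
      rw [hk]
      norm_num
      omega

/-- **corollary 3**: dimensions eight and nine -/
theorem t_of_small (h2 : (2 : F) ≠ 0) (hJ : JHyp PJ)
    (hP : ∀ X : Tri.{u, v} F, 0 < X.n → ∃ P X' : Tri.{u, v} F, Iso X (P.sum X') ∧ 0 < P.n ∧ Piece PJ P)
    (X : Tri.{u, v} F) (hn : X.n = 8 ∨ X.n = 9) : X.T 1 1 := by
  rcases main h2 hJ hP X (by
    rcases hn with hn | hn
    · exact Or.inr (by rw [hn]; decide)
    · exact Or.inl (by rw [hn]; decide)) with h | ⟨c, j, L, hL, h⟩
  · exact h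
  · have h1 := h.t h2 hJ
    have h3 := h.dim hJ
    obtain ⟨h4, h5⟩ := sum_cnt (h.odd hJ) (by omega)
    have y1 := cnt_le (a := 1) hL
    have y3 := cnt_le (a := 3) hL
    have y5 := cnt_le (a := 5) hL
    have y7 := cnt_le (a := 7) hL
    have y9 := cnt_le (a := 9) hL
    have h6 : Even (j + ex L) := by
      rw [Nat.even_iff, h5]
      rw [h4] at h3
      generalize cnt 1 L = a1 at *
      generalize cnt 3 L = a3 at *
      generalize cnt 5 L = a5 at *
      generalize cnt 7 L = a7 at *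
      generalize cnt 9 L = a9 at *
      have : j ≤ 2 := by omega
      interval_cases j <;> interval_cases a3 <;> interval_cases a5 <;> interval_cases a7 <;>
        interval_cases a9 <;> omega
    obtain ⟨k, hk⟩ := h6
    rwa [hk, ← two_mul, pow_mul, pow_two, Int.units_mul_self, one_pow] at h1

end Cfsg.Agent.H853.SR
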