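import Cfsg.Agent.H853.SR.Tri

/-!
# TEAM SR, decomposition of an isometry of an orthogonal space (SR-O4): the combinatorics (helper853)

Pieces: `PA` (free), `PE` (dimension `4j`), `PJ` (an abstract predicate for single odd Jordan blocks, `JHyp`).
`main` : if every triple of positive dimension splits off a piece and the dimension is odd or divisible by four,
then `T 1 1` or there is a decomposition `DecJ` into one `E` part and pairwise different `J` pieces of the same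
discriminant class.
-/

set_option autoImplicit false

namespace Cfsg.Agent.H853.SR

open Module QuadraticMap
open Cfsg.Agent.LieClassical.OrthCore Cfsg.Agent.H160.QSpin Cfsg.Agent.H160.QDisc

universe u v

variable {F : Type u} [Field F]

open Classical in
/-- the quadratic character of `-1` -/
noncomputable def ch (F : Type u) [Field F] : ℤˣ := if IsSquare (-1 : F) then 1 else -1

namespace Tri

/-- all signs occur -/
def Free (X : Tri.{u, v} F) : Prop := ∀ s : ℤˣ, X.T 1 s ∧ X.T (-1) s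

/-- all spinor signs occur for one determinant -/
def PA (X : Tri.{u, v} F) : Prop := ∃ d : ℕ, X.n = 2 * d ∧ ∀ s : ℤˣ, X.T ((-1) ^ d) s

/-- there is an inverting involution -/
def HasT (X : Tri.{u, v} F) : Prop := ∃ s : ℤˣ, X.T 1 s ∨ X.T (-1) s

/-- both determinants occur -/
def Both (X : Tri.{u, v} F) : Prop := (∃ s : ℤˣ, X.T 1 s) ∧ ∃ s : ℤˣ, X.T (-1) s

theorem Free.iso {X Y : Tri.{u, v} F} (h : X.Free) (e : Iso X Y) : Y.Free :=
  fun s => ⟨(h s).1.iso e, (h s).2.iso e⟩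

theorem PA.iso {X Y : Tri.{u, v} F} (h : X.PA) (e : Iso X Y) : Y.PA := by
  obtain ⟨d, h1, h2⟩ := h
  exact ⟨d, by rw [← e.n, h1], fun s => (h2 s).iso e⟩

theorem Free.hasT {X : Tri.{u, v} F} (h : X.Free) : X.HasT := ⟨1, Or.inl (h 1).1⟩

theorem Free.both {X : Tri.{u, v} F} (h : X.Free) : X.Both := ⟨⟨1, (h 1).1⟩, 1, (h 1).2⟩

theorem Both.hasT {X : Tri.{u, v} F} (h : X.Both) : X.HasT := by
  obtain ⟨⟨s, h⟩, -⟩ := h
  exact ⟨s, Or.inl h⟩

theorem PA.hasT {X : Tri.{u, v} F} (h : X.PA) : X.HasT := by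
  obtain ⟨d, -, h⟩ := h
  rcases neg_one_pow_eq_or Fˣ d with h1 | h1
  · exact ⟨1, Or.inl (h1 ▸ h 1)⟩
  · exact ⟨1, Or.inr (h1 ▸ h 1)⟩

section

variable [Finite F]

theorem Free.sum (h2 : (2 : F) ≠ 0) {X Y : Tri.{u, v} F} (h : X.Free) (h' : Y.HasT) : (X.sum Y).Free := by
  obtain ⟨t, ht | ht⟩ := h'
  · intro s
    constructor
    · have := (h (s * t)).1.sum h2 ht
      rwa [one_mul, mul_assoc, Int.units_mul_self, mul_one] at this
    · have := (h (s * t)).2.sum h2 ht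
      rwa [mul_one, mul_assoc, Int.units_mul_self, mul_one] at this
  · intro s
    constructor
    · have := (h (s * t)).2.sum h2 ht
      rwa [neg_one_mul, neg_neg, mul_assoc, Int.units_mul_self, mul_one] at this
    · have := (h (s * t)).1.sum h2 ht
      rwa [one_mul, mul_assoc, Int.units_mul_self, mul_one] at this

theorem HasT.sum (h2 : (2 : F) ≠ 0) {X Y : Tri.{u, v} F} (h : X.HasT) (h' : Y.HasT) : (X.sum Y).HasT := by
  obtain ⟨t, ht⟩ := h'
  obtain ⟨s, hs⟩ := h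
  rcases ht with ht | ht <;> rcases hs with hs | hs
  · exact ⟨s * t, Or.inl (by have := hs.sum h2 ht; rwa [one_mul] at this)⟩
  · exact ⟨s * t, Or.inr (by have := hs.sum h2 ht; rwa [mul_one] at this)⟩
  · exact ⟨s * t, Or.inr (by have := hs.sum h2 ht; rwa [one_mul] at this)⟩
  · exact ⟨s * t, Or.inl (by have := hs.sum h2 ht; rwa [neg_one_mul, neg_neg] at this)⟩

theorem PA.sum_both (h2 : (2 : F) ≠ 0) {X Y : Tri.{u, v} F} (h : X.PA) (h' : Y.Both) : (X.sum Y).Free := by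
  obtain ⟨d, -, h⟩ := h
  obtain ⟨⟨t, ht⟩, t', ht'⟩ := h'
  intro s
  have h3 := (h (s * t)).sum h2 ht
  have h4 := (h (s * t')).sum h2 ht'
  rw [mul_one, mul_assoc, Int.units_mul_self, mul_one] at h3
  rw [mul_assoc, Int.units_mul_self, mul_one] at h4
  rcases neg_one_pow_eq_or Fˣ d with h1 | h1
  · rw [h1] at h3 h4
    rw [one_mul] at h4
    exact ⟨h3, h4⟩
  · rw [h1] at h3 h4
    rw [neg_one_mul, neg_neg] at h4
    exact ⟨h4, h3⟩

theorem PA.sum (h2 : (2 : F) ≠ 0) {X Y : Tri.{u, v} F} (h : X.PA) (h' : Y.PA) : (X.sum Y).PA := by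
  obtain ⟨d, hd, h⟩ := h
  obtain ⟨e, he, h'⟩ := h'
  refine ⟨d + e, by rw [n_sum, hd, he]; ring, fun s => ?_⟩
  have := (h s).sum h2 (h' 1)
  rwa [mul_one, ← pow_add] at this

theorem Both.sum (h2 : (2 : F) ≠ 0) {X Y : Tri.{u, v} F} (h : X.Both) (h' : Y.HasT) : (X.sum Y).Both := by
  obtain ⟨⟨s, hs⟩, s', hs'⟩ := h
  obtain ⟨t, ht | ht⟩ := h'
  · exact ⟨⟨s * t, by have := hs.sum h2 ht; rwa [mul_one] at this⟩,
      s' * t, by have := hs'.sum h2 ht; rwa [mul_one] at this⟩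
  · exact ⟨⟨s' * t, by have := hs'.sum h2 ht; rwa [neg_one_mul, neg_neg] at this⟩,
      s * t, by have := hs.sum h2 ht; rwa [one_mul] at this⟩

end

end Tri

variable [Fintype F] [DecidableEq F]

open Tri

/-- the `E` pieces -/
def PE (j : ℕ) (X : Tri.{u, v} F) : Prop := X.n = 4 * j ∧ X.c = 1 ∧ X.T 1 (ch F ^ j)

/-- the properties of the `J` pieces -/
structure JHyp (PJ : Tri.{u, v} F → ℕ → ℤˣ → Prop) : Prop where
  odd : ∀ X a σ, PJ X a σ → Odd a
  dim : ∀ X a σ, PJ X a σ → X.n = a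
  tt : ∀ X a σ, PJ X a σ → X.T 1 (ch F ^ ((a ^ 2 - 1) / 8))
  uniq : ∀ X Y a σ, PJ X a σ → PJ Y a σ → X.c = Y.c → Iso X Y
  smul : ∀ (X : Tri.{u, v} F) (a : ℕ) (σ : ℤˣ) (d : F) (hd : d ≠ 0), PJ X a σ → PJ (X.smul d hd) a σ

/-- a decomposition into an `E` part and `J` pieces of class `c` -/
def DecJ (PJ : Tri.{u, v} F → ℕ → ℤˣ → Prop) (c : ℤˣ) (j : ℕ) : List (ℕ × ℤˣ) → Tri.{u, v} F → Prop
  | [], X => PE j X
  | p :: L, X => ∃ J X' : Tri.{u, v} F, PJ J p.1 p.2 ∧ J.c = c ∧ DecJ PJ c j L X' ∧ Iso X (J.sum X')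

variable {PJ : Tri.{u, v} F → ℕ → ℤˣ → Prop}

theorem PE.iso {j : ℕ} {X Y : Tri.{u, v} F} (h : PE j X) (e : Iso X Y) : PE j Y :=
  ⟨by rw [← e.n, h.1], by rw [← e.c, h.2.1], h.2.2.iso e⟩

theorem PE.sum (h2 : (2 : F) ≠ 0) {i j : ℕ} {X Y : Tri.{u, v} F} (h : PE i X) (h' : PE j Y) :
    PE (i + j) (X.sum Y) := by
  refine ⟨by rw [n_sum, h.1, h'.1]; ring, by rw [c_sum, h.2.1, h'.2.1, one_mul], ?_⟩
  have := h.2.2.sum h2 h'.2.2
  rwa [one_mul, ← pow_add] at this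

theorem DecJ.iso {c : ℤˣ} {j : ℕ} {L : List (ℕ × ℤˣ)} {X Y : Tri.{u, v} F} (h : DecJ PJ c j L X) (e : Iso X Y) :
    DecJ PJ c j L Y := by
  cases L with
  | nil => exact PE.iso h e
  | cons p L =>
    obtain ⟨J, X', h1, h2, h3, h4⟩ := h
    exact ⟨J, X', h1, h2, h3, e.symm.trans h4⟩

theorem DecJ.perm {c : ℤˣ} {j : ℕ} {L L' : List (ℕ × ℤˣ)} (hp : L.Perm L') :
    ∀ {X : Tri.{u, v} F}, DecJ PJ c j L X → DecJ PJ c j L' X := by
  induction hp with
  | nil => intro X h; exact h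
  | cons p _ ih =>
    rintro X ⟨J, X', h1, h2, h3, h4⟩
    exact ⟨J, X', h1, h2, ih h3, h4⟩
  | swap p q L =>
    rintro X ⟨J, X', h1, h2, ⟨J', X'', h3, h4, h5, h6⟩, h7⟩
    exact ⟨J', J.sum X'', h3, h4, ⟨J, X'', h1, h2, h5, Iso.refl _⟩,
      h7.trans (((Iso.refl J).sum h6).trans (sum_left_comm J J' X''))⟩
  | trans _ _ ih1 ih2 => intro X h; exact ih2 (ih1 h)

theorem DecJ.addE (h2 : (2 : F) ≠ 0) {c : ℤˣ} {i j : ℕ} {L : List (ℕ × ℤˣ)} {P : Tri.{u, v} F} (hP : PE i P) :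
    ∀ {X : Tri.{u, v} F}, DecJ PJ c j L X → DecJ PJ c (i + j) L (P.sum X) := by
  induction L with
  | nil => intro X h; exact hP.sum h2 h
  | cons p L ih =>
    rintro X ⟨J, X', h1, h3, h4, h5⟩
    exact ⟨J, P.sum X', h1, h3, ih h4, ((Iso.refl P).sum h5).trans (sum_left_comm P J X')⟩

/-- the exponent of a list of `J` pieces -/
def ex (L : List (ℕ × ℤˣ)) : ℕ := (L.map fun p => (p.1 ^ 2 - 1) / 8).sum

theorem ex_cons (p : ℕ × ℤˣ) (L : List (ℕ × ℤˣ)) : ex (p :: L) = (p.1 ^ 2 - 1) / 8 + ex L := rfl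

theorem DecJ.t (h2 : (2 : F) ≠ 0) (hJ : JHyp PJ) {c : ℤˣ} {j : ℕ} {L : List (ℕ × ℤˣ)} :
    ∀ {X : Tri.{u, v} F}, DecJ PJ c j L X → X.T 1 (ch F ^ (j + ex L)) := by
  induction L with
  | nil => intro X h; exact h.2.2
  | cons p L ih =>
    rintro X ⟨J, X', h1, h3, h4, h5⟩
    have := ((hJ.tt _ _ _ h1).sum h2 (ih h4)).iso h5.symm
    rw [one_mul, ← pow_add] at this
    rw [ex_cons]
    convert this using 2
    ring

theorem DecJ.dim (hJ : JHyp PJ) {c : ℤˣ} {j : ℕ} {L : List (ℕ × ℤˣ)} :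
    ∀ {X : Tri.{u, v} F}, DecJ PJ c j L X → X.n = 4 * j + (L.map Prod.fst).sum := by
  induction L with
  | nil => intro X h; exact h.1
  | cons p L ih =>
    rintro X ⟨J, X', h1, h3, h4, h5⟩
    rw [h5.n, n_sum, hJ.dim _ _ _ h1, ih h4, List.map_cons, List.sum_cons]
    ring

theorem DecJ.cls {c : ℤˣ} {j : ℕ} {L : List (ℕ × ℤˣ)} :
    ∀ {X : Tri.{u, v} F}, DecJ PJ c j L X → X.c = c ^ L.length := by
  induction L with
  | nil => intro X h; rw [List.length_nil, pow_zero]; exact h.2.1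
  | cons p L ih =>
    rintro X ⟨J, X', h1, h3, h4, h5⟩
    rw [h5.c, c_sum, h3, ih h4, List.length_cons, pow_succ, mul_comm]

theorem DecJ.odd (hJ : JHyp PJ) {c : ℤˣ} {j : ℕ} {L : List (ℕ × ℤˣ)} :
    ∀ {X : Tri.{u, v} F}, DecJ PJ c j L X → ∀ p ∈ L, Odd p.1 := by
  induction L with
  | nil => intro X h p hp; simp at hp
  | cons p L ih =>
    rintro X ⟨J, X', h1, h3, h4, h5⟩ q hq
    rcases List.mem_cons.1 hq with rfl | hq
    · exact hJ.odd _ _ _ h1
    · exact ih h4 q hq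

theorem both_of_PJ (hJ : JHyp PJ) {J : Tri.{u, v} F} {a : ℕ} {σ : ℤˣ} (h : PJ J a σ) : J.Both := by
  have h1 := hJ.tt _ _ _ h
  refine ⟨⟨_, h1⟩, ch F ^ ((a ^ 2 - 1) / 8) * J.m, ?_⟩
  have h3 := T_neg h1
  have h4 : Odd J.n := by rw [hJ.dim _ _ _ h]; exact hJ.odd _ _ _ h
  rwa [h4.neg_one_pow, one_mul] at h3

/-- two odd-dimensional pieces of different classes -/
theorem free_of_ne (h2 : (2 : F) ≠ 0) (hJ : JHyp PJ) {J J' : Tri.{u, v} F} {a a' : ℕ} {σ σ' : ℤˣ} (h : PJ J a σ)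
    (h' : PJ J' a' σ') (hc : J.c ≠ J'.c) : (J.sum J').Free := by
  have h1 := hJ.tt _ _ _ h
  have h1' := hJ.tt _ _ _ h'
  have ho : Odd J.n := by rw [hJ.dim _ _ _ h]; exact hJ.odd _ _ _ h
  have ho' : Odd J'.n := by rw [hJ.dim _ _ _ h']; exact hJ.odd _ _ _ h'
  have h3 := T_neg h1
  rw [ho.neg_one_pow, one_mul] at h3
  have h3' := T_neg h1'
  rw [ho'.neg_one_pow, one_mul] at h3'
  have hm : J.m * J'.m = -1 := by
    rw [← m_sum h2, m_even h2 _ (by rw [n_sum]; exact ho.add_odd ho'), c_sum]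
    rcases Int.units_eq_one_or J.c with hx | hx <;> rcases Int.units_eq_one_or J'.c with hy | hy
    · exact absurd (hx.trans hy.symm) hc
    · rw [hx, hy]; rfl
    · rw [hx, hy]; rfl
    · exact absurd (hx.trans hy.symm) hc
  set s := ch F ^ ((a ^ 2 - 1) / 8) with hs
  set s' := ch F ^ ((a' ^ 2 - 1) / 8) with hs'
  have k1 := h1.sum h2 h1'
  have k2 := h3.sum h2 h3'
  have k3 := h3.sum h2 h1'
  have k4 := h1.sum h2 h3'
  rw [mul_one] at k1 k3
  rw [one_mul] at k4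
  rw [neg_one_mul, neg_neg] at k2
  have e2 : s * J.m * (s' * J'.m) = -(s * s') := by
    calc s * J.m * (s' * J'.m) = (s * s') * (J.m * J'.m) := by
          simp only [mul_assoc, mul_left_comm]
      _ = -(s * s') := by rw [hm, mul_neg_one]
  have e3 : J'.m = -J.m := by
    have : J.m * (J.m * J'.m) = J.m * -1 := by rw [hm]
    rw [← mul_assoc, Int.units_mul_self, one_mul, mul_neg_one] at this
    exact this
  have e4 : s * (s' * J'.m) = -(s * J.m * s') := by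
    rw [e3, mul_neg, mul_neg]
    congr 1
    simp only [mul_comm, mul_left_comm]
  rw [e2] at k2
  rw [e4] at k4
  have hcase : ∀ x t : ℤˣ, t = x ∨ t = -x := by decide
  intro t
  constructor
  · rcases hcase (s * s') t with h | h
    · rw [h]; exact k1
    · rw [h]; exact k2
  · rcases hcase (s * J.m * s') t with h | h
    · rw [h]; exact k3
    · rw [h]; exact k4

omit [DecidableEq F] in
theorem exists_nonsq (h2 : (2 : F) ≠ 0) : ∃ d a b : F, d ≠ 0 ∧ ¬ IsSquare d ∧ a * a + b * b = d := by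
  have hchar : ringChar F ≠ 2 := by
    intro h
    apply h2
    have := ringChar.spec F 2
    rw [h] at this
    exact_mod_cast this.2 dvd_rfl
  obtain ⟨d, hd⟩ := FiniteField.exists_nonsquare hchar
  have hodd : Fintype.card F % 2 = 1 := FiniteField.odd_card_of_char_ne_two hchar
  have h := FiniteField.exists_root_sum_quadratic (R := F) (f := Polynomial.X ^ 2)
    (g := Polynomial.X ^ 2 - Polynomial.C d) (Polynomial.degree_X_pow 2)
    (Polynomial.degree_X_pow_sub_C (by decide) _) hodd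
  obtain ⟨a, b, hab⟩ := h
  refine ⟨d, a, b, ?_, hd, ?_⟩
  · rintro rfl
    exact hd (IsSquare.zero)
  · simp only [Polynomial.eval_pow, Polynomial.eval_X, Polynomial.eval_sub, Polynomial.eval_C] at hab
    linear_combination hab

/-- re-decomposition of two equal `J` pieces -/
theorem redec (h2 : (2 : F) ≠ 0) (hJ : JHyp PJ) {J J' : Tri.{u, v} F} {a : ℕ} {σ : ℤˣ} (h : PJ J a σ)
    (h' : PJ J' a σ) (hc : J.c = J'.c) :
    ∃ K : Tri.{u, v} F, PJ K a σ ∧ K.c = - J.c ∧ Iso (J.sum J') (K.sum K) := by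
  obtain ⟨d, x, y, hd, hns, hxy⟩ := exists_nonsq (F := F) h2
  have ho : Odd J.n := by rw [hJ.dim _ _ _ h]; exact hJ.odd _ _ _ h
  exact ⟨J.smul d hd, hJ.smul _ _ _ _ hd h, c_smul J ho hd hns,
    ((Iso.refl J).sum (hJ.uniq _ _ _ _ h' h hc.symm)).trans (J.double hd hxy).symm⟩

theorem DecJ.both (h2 : (2 : F) ≠ 0) (hJ : JHyp PJ) {c : ℤˣ} {j : ℕ} {p : ℕ × ℤˣ} {L : List (ℕ × ℤˣ)}
    {X : Tri.{u, v} F} (h : DecJ PJ c j (p :: L) X) : X.Both := by
  obtain ⟨J, X', h1, h3, h4, h5⟩ := h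
  have h6 := (both_of_PJ hJ h1).sum h2 (Y := X') ⟨_, Or.inl (h4.t h2 hJ)⟩
  exact ⟨⟨_, h6.1.choose_spec.iso h5.symm⟩, ⟨_, h6.2.choose_spec.iso h5.symm⟩⟩

/-- the three outcomes -/
def Res (PJ : Tri.{u, v} F → ℕ → ℤˣ → Prop) (X : Tri.{u, v} F) : Prop :=
  X.Free ∨ X.PA ∨ ∃ c j L, DecJ PJ c j L X

theorem Res.iso {X Y : Tri.{u, v} F} (h : Res PJ X) (e : Iso X Y) : Res PJ Y := by
  rcases h with h | h | ⟨c, j, L, h⟩
  · exact Or.inl (h.iso e)
  · exact Or.inr (Or.inl (h.iso e))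
  · exact Or.inr (Or.inr ⟨c, j, L, h.iso e⟩)

theorem Res.hasT (h2 : (2 : F) ≠ 0) (hJ : JHyp PJ) {X : Tri.{u, v} F} (h : Res PJ X) : X.HasT := by
  rcases h with h | h | ⟨c, j, L, h⟩
  · exact h.hasT
  · exact h.hasT
  · exact ⟨_, Or.inl (h.t h2 hJ)⟩

/-- the pieces -/
def Piece (PJ : Tri.{u, v} F → ℕ → ℤˣ → Prop) (P : Tri.{u, v} F) : Prop :=
  P.PA ∨ (∃ j, PE j P) ∨ ∃ a σ, PJ P a σ

theorem step (h2 : (2 : F) ≠ 0) (hJ : JHyp PJ) {P X : Tri.{u, v} F} (hP : Piece PJ P) (hX : Res PJ X) :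
    Res PJ (P.sum X) := by
  have hPT : P.HasT := by
    rcases hP with h | ⟨j, h⟩ | ⟨a, σ, h⟩
    · exact h.hasT
    · exact ⟨_, Or.inl h.2.2⟩
    · exact (both_of_PJ hJ h).hasT
  rcases hX with hX | hX | ⟨c, j, L, hX⟩
  · exact Or.inl ((hX.sum h2 hPT).iso (sum_comm _ _))
  · rcases hP with h | ⟨i, h⟩ | ⟨a, σ, h⟩
    · exact Or.inr (Or.inl (h.sum h2 hX))
    · right; left
      obtain ⟨d, hd, hX⟩ := hX
      refine ⟨2 * i + d, by rw [n_sum, h.1, hd]; ring, fun s => ?_⟩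
      have h3 := h.2.2.sum h2 (hX (ch F ^ i * s))
      rw [← mul_assoc, Int.units_mul_self, one_mul, one_mul] at h3
      rwa [pow_add, pow_mul, neg_one_sq, one_pow, one_mul]
    · exact Or.inl ((hX.sum_both h2 (both_of_PJ hJ h)).iso (sum_comm _ _))
  · rcases hP with h | ⟨i, h⟩ | ⟨a, σ, h⟩
    · cases L with
      | nil =>
        right; left
        obtain ⟨d, hd, h⟩ := h
        refine ⟨d + 2 * j, by rw [n_sum, hd, hX.1]; ring, fun s => ?_⟩
        have h3 := (h (s * ch F ^ j)).sum h2 hX.2.2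
        rw [mul_assoc, Int.units_mul_self, mul_one, mul_one] at h3
        rwa [pow_add, pow_mul, neg_one_sq, one_pow, mul_one]
      | cons p L => exact Or.inl (h.sum_both h2 (hX.both h2 hJ))
    · exact Or.inr (Or.inr ⟨c, i + j, L, hX.addE h2 h⟩)
    · cases L with
      | nil => exact Or.inr (Or.inr ⟨P.c, j, [(a, σ)], P, X, h, rfl, hX, Iso.refl _⟩)
      | cons p L =>
        obtain ⟨J, X', h1, h3, h4, h5⟩ := hX
        by_cases hc : P.c = J.c
        · exact Or.inr (Or.inr ⟨c, j, (a, σ) :: p :: L, P, X, h, hc.trans h3, ⟨J, X', h1, h3, h4, h5⟩, Iso.refl _⟩)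
        · left
          refine ((free_of_ne h2 hJ h h1 hc).sum h2 (Y := X') ⟨_, Or.inl (h4.t h2 hJ)⟩).iso ?_
          exact (sum_assoc _ _ _).trans ((Iso.refl P).sum h5.symm)

theorem res_zero {X : Tri.{u, v} F} (h : X.n = 0) : Res PJ X := by
  have hs : Subsingleton X.V := finrank_zero_iff.1 h
  refine Or.inr (Or.inr ⟨1, 0, [], by rw [h], ?_, 1, (O X.Q).one_mem, ?_, ?_, ?_, ?_⟩)
  · apply Units.ext
    rw [coe_c]
    unfold dc
    rw [gdet_of_zero X.Q h]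
    simp
  · exact one_mul _
  · ext x
    exact Subsingleton.elim _ _
  · exact map_one _
  · rw [pow_zero]
    exact map_one (spin X.Q)

/-- **every triple is of one of the three kinds** -/
theorem res (h2 : (2 : F) ≠ 0) (hJ : JHyp PJ)
    (hP : ∀ X : Tri.{u, v} F, 0 < X.n → ∃ P X' : Tri.{u, v} F, Iso X (P.sum X') ∧ 0 < P.n ∧ Piece PJ P)
    (X : Tri.{u, v} F) : Res PJ X := by
  induction hn : X.n using Nat.strong_induction_on generalizing X with
  | _ n ih =>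
    rcases Nat.eq_zero_or_pos X.n with h0 | h0
    · exact res_zero h0
    · obtain ⟨P, X', h1, h3, h4⟩ := hP X h0
      have h5 : X.n = P.n + X'.n := by rw [h1.n, n_sum]
      exact (step h2 hJ h4 (ih X'.n (by omega) X' rfl)).iso h1.symm

theorem sum_fst_odd {L : List (ℕ × ℤˣ)} (h : ∀ p ∈ L, Odd p.1) : (L.map Prod.fst).sum % 2 = L.length % 2 := by
  induction L with
  | nil => rfl
  | cons p L ih =>
    have h1 := ih fun q hq => h q (List.mem_cons_of_mem _ hq)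
    have h2 := Nat.odd_iff.1 (h p List.mem_cons_self)
    rw [List.map_cons, List.sum_cons, List.length_cons]
    omega

/-- **the decomposition theorem** (SR-O4) -/
theorem main (h2 : (2 : F) ≠ 0) (hJ : JHyp PJ)
    (hP : ∀ X : Tri.{u, v} F, 0 < X.n → ∃ P X' : Tri.{u, v} F, Iso X (P.sum X') ∧ 0 < P.n ∧ Piece PJ P)
    (X : Tri.{u, v} F) (hn : Odd X.n ∨ 4 ∣ X.n) :
    X.T 1 1 ∨ ∃ c j L, L.Nodup ∧ DecJ PJ c j L X := by
  rcases res h2 hJ hP X with h | h | ⟨c, j, L, h⟩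
  · exact Or.inl (h 1).1
  · obtain ⟨d, hd, h⟩ := h
    left
    have hd2 : Even d := by
      rcases hn with hn | hn
      · rw [hd] at hn
        exact absurd hn (by simp)
      · rw [hd] at hn
        obtain ⟨k, hk⟩ := hn
        exact ⟨k, by omega⟩
    have := h 1
    rwa [hd2.neg_one_pow] at this
  · by_cases hL : L.Nodup
    · exact Or.inr ⟨c, j, L, hL, h⟩
    · left
      obtain ⟨p, hp⟩ := List.exists_duplicate_iff_not_nodup.2 hL
      obtain ⟨L', hL'⟩ := (List.duplicate_iff_sublist.1 hp).exists_perm_append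
      have h3 : DecJ PJ c j (p :: p :: L') X := h.perm hL'
      have hodd := h3.odd hJ
      cases L' with
      | nil =>
        exfalso
        have h4 := h3.dim hJ
        have h5 := Nat.odd_iff.1 (hodd p List.mem_cons_self)
        simp only [List.map_cons, List.map_nil, List.sum_cons, List.sum_nil] at h4
        rcases hn with hn | hn
        · have := Nat.odd_iff.1 hn
          omega
        · omega
      | cons q L' =>
        obtain ⟨J₁, X₁, a1, a2, ⟨J₂, X₂, b1, b2, ⟨J₃, X₃, c1, c2, c3, c4⟩, b4⟩, a4⟩ := h3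
        obtain ⟨K, k1, k2, k3⟩ := redec h2 hJ a1 b1 (a2.trans b2.symm)
        have h6 : (K.sum J₃).Free := free_of_ne h2 hJ k1 c1 (by
          rw [k2, a2, c2]
          have : ∀ x : ℤˣ, -x ≠ x := by decide
          exact this c)
        have h7 : ((K.sum J₃).sum (K.sum X₃)).Free := h6.sum h2
          ((both_of_PJ hJ k1).hasT.sum h2 ⟨_, Or.inl (c3.t h2 hJ)⟩)
        -- `X ≅ J₁ ⊥ (J₂ ⊥ (J₃ ⊥ X₃)) ≅ (K ⊥ K) ⊥ (J₃ ⊥ X₃)`
        have e1 : Iso X (J₁.sum (J₂.sum (J₃.sum X₃))) :=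
          a4.trans ((Iso.refl J₁).sum (b4.trans ((Iso.refl J₂).sum c4)))
        have e2 : Iso (J₁.sum (J₂.sum (J₃.sum X₃))) (K.sum (K.sum (J₃.sum X₃))) :=
          (sum_assoc _ _ _).symm.trans ((k3.sum (Iso.refl _)).trans (sum_assoc _ _ _))
        have e3 : Iso (K.sum (K.sum (J₃.sum X₃))) ((K.sum J₃).sum (K.sum X₃)) :=
          ((Iso.refl K).sum (sum_left_comm _ _ _)).trans (sum_assoc _ _ _).symm
        exact ((h7 1).1).iso ((e1.trans (e2.trans e3)).symm)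

end Cfsg.Agent.H853.SR
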