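import Cfsg.Agent.H853.SR.Bridge
import Cfsg.Agent.H382.SRJ4

/-!
# TEAM SR: the `J` inputs of the decomposition (from helper382's OODD_J) (helper853)
-/

set_option autoImplicit false

namespace Cfsg.Agent.H853.SR

open Polynomial Module QuadraticMap
open Cfsg.Agent.LieClassical.OrthCore Cfsg.Agent.H160.QSpin Cfsg.Agent.H160.QDisc Cfsg.Agent.H721.SR

universe u v

theorem hypJT {F : Type u} [Field F] [Finite F] (h2 : (2 : F) ≠ 0) : HypJT.{u, v} F := by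
  intro V _ _ _ _ Q g σ a v hQ hg hσ ha hp ht
  refine ⟨?_, ?_⟩
  · obtain ⟨b, c, -, -, -⟩ := Cfsg.Agent.H382.SRJ.exists_JD h2 hQ hg hσ ht hp
    rw [finrank_eq_card_basis b, Fintype.card_fin]
  · have h := Cfsg.Agent.H382.SRJ.T_of_CPiece h2 hQ hg hσ ht hp
    unfold ch
    exact h

theorem hypJU {F : Type u} [Field F] [Fintype F] [DecidableEq F] (h2 : (2 : F) ≠ 0) : HypJU.{u, v} F := by
  intro V W _ _ _ _ _ _ _ _ Q Q' g g' σ a v v' hQ hQ' hg hg' hσ ha hp ht hp' ht' hd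
  obtain ⟨b, c, hc, h, -⟩ := Cfsg.Agent.H382.SRJ.exists_JD h2 hQ hg hσ ht hp
  obtain ⟨b', c', hc', h', -⟩ := Cfsg.Agent.H382.SRJ.exists_JD h2 hQ' hg' hσ ht' hp'
  exact Cfsg.Agent.H382.SRJ.JD.iso_of_dc h2 ha h h' hc hc' hd

end Cfsg.Agent.H853.SR
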