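import Cfsg.Agent.H721.SR.Orth

/-!
# TEAM SR, decomposition of an isometry of an orthogonal space: bundled triples (helper853)

* `Tri F` : a nondegenerate finite quadratic space with an isometry;
* `Tri.Iso`, `Tri.sum`, `Tri.smul`, `Tri.n`, `Tri.c`, `Tri.T`;
* `Tri.T` is invariant, multiplicative, and compatible with `h ↦ -h`;
* `Tri.double` : `X ⊥ X ≅ cX ⊥ cX` if `c` is a sum of two squares.
-/

set_option autoImplicit false

namespace Cfsg.Agent.H853.SR

open Module QuadraticMap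
open Cfsg.Agent.LieClassical.OrthCore Cfsg.Agent.H160.QSpin Cfsg.Agent.H160.QDisc

universe u v

/-- a nondegenerate finite quadratic space with an isometry -/
structure Tri (F : Type u) [Field F] where
  /-- the space -/
  V : Type v
  [iA : AddCommGroup V]
  [iM : Module F V]
  [iF : Finite V]
  /-- the form -/
  Q : QuadraticForm F V
  /-- the isometry -/
  g : V ≃ₗ[F] V
  nd : Nondeg Q
  iso : g ∈ O Q

attribute [instance] Tri.iA Tri.iM Tri.iF

variable {F : Type u} [Field F]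

theorem exists_dbl {V : Type*} [AddCommGroup V] [Module F V] (Q : QuadraticForm F V) (g : V ≃ₗ[F] V) {c a b : F}
    (hc : c ≠ 0) (hab : a * a + b * b = c) :
    ∃ e : (V × V) ≃ₗ[F] (V × V), (∀ p : V × V, Q (e p).1 + Q (e p).2 = c * (Q p.1 + Q p.2)) ∧
      cj e (pr g g) = pr g g := by
  let e : (V × V) ≃ₗ[F] (V × V) :=
    { toFun := fun p => (a • p.1 - b • p.2, b • p.1 + a • p.2)
      map_add' := by
        rintro ⟨x, y⟩ ⟨x', y'⟩
        simp only [Prod.mk_add_mk, smul_add]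
        congr 1
        · abel
        · abel
      map_smul' := by
        rintro r ⟨x, y⟩
        simp only [RingHom.id_apply, Prod.smul_mk, smul_sub, smul_add, smul_comm r]
      invFun := fun p => (c⁻¹ • (a • p.1 + b • p.2), c⁻¹ • (a • p.2 - b • p.1))
      left_inv := by
        rintro ⟨x, y⟩
        have h1 : a • (a • x - b • y) + b • (b • x + a • y) = c • x := by
          rw [← hab]; module
        have h2 : a • (b • x + a • y) - b • (a • x - b • y) = c • y := by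
          rw [← hab]; module
        show (c⁻¹ • (a • (a • x - b • y) + b • (b • x + a • y)),
          c⁻¹ • (a • (b • x + a • y) - b • (a • x - b • y))) = (x, y)
        rw [h1, h2, smul_smul, smul_smul, inv_mul_cancel₀ hc, one_smul, one_smul]
      right_inv := by
        rintro ⟨x, y⟩
        have h1 : a • (c⁻¹ • (a • x + b • y)) - b • (c⁻¹ • (a • y - b • x)) = c⁻¹ • (c • x) := by
          rw [← hab]; module
        have h2 : b • (c⁻¹ • (a • x + b • y)) + a • (c⁻¹ • (a • y - b • x)) = c⁻¹ • (c • y) := by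
          rw [← hab]; module
        show (a • (c⁻¹ • (a • x + b • y)) - b • (c⁻¹ • (a • y - b • x)),
          b • (c⁻¹ • (a • x + b • y)) + a • (c⁻¹ • (a • y - b • x))) = (x, y)
        rw [h1, h2, smul_smul, smul_smul, inv_mul_cancel₀ hc, one_smul, one_smul] }
  refine ⟨e, ?_, ?_⟩
  · rintro ⟨x, y⟩
    show Q (a • x - b • y) + Q (b • x + a • y) = c * (Q x + Q y)
    have h1 : Q (a • x - b • y) = a * a * Q x + b * b * Q y - a * b * polar Q x y := by
      have h := QuadraticMap.map_add (f := Q) (a • x) (-(b • y))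
      rw [← sub_eq_add_neg] at h
      rw [h, QuadraticMap.map_neg, QuadraticMap.map_smul,
        QuadraticMap.map_smul, ← neg_smul, QuadraticMap.polar_smul_left, QuadraticMap.polar_smul_right]
      simp only [smul_eq_mul]
      ring
    have h2 : Q (b • x + a • y) = b * b * Q x + a * a * Q y + a * b * polar Q x y := by
      have h := QuadraticMap.map_add (f := Q) (b • x) (a • y)
      rw [h, QuadraticMap.map_smul, QuadraticMap.map_smul,
        QuadraticMap.polar_smul_left, QuadraticMap.polar_smul_right]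
      simp only [smul_eq_mul]
      ring
    rw [h1, h2, ← hab]
    ring
  · have h1 : e * pr g g = pr g g * e := by
      apply LinearEquiv.ext
      rintro ⟨x, y⟩
      show (a • g x - b • g y, b • g x + a • g y) = (g (a • x - b • y), g (b • x + a • y))
      rw [map_sub, map_add, map_smul, map_smul, map_smul, map_smul]
    apply LinearEquiv.ext
    intro p
    have h2 := congrArg (fun k : (V × V) ≃ₗ[F] (V × V) => k (e.symm p)) h1
    show e (pr g g (e.symm p)) = pr g g p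
    refine h2.trans ?_
    show pr g g (e (e.symm p)) = _
    rw [LinearEquiv.apply_symm_apply]

namespace Tri

/-- isomorphic triples -/
def Iso (X Y : Tri.{u, v} F) : Prop := ∃ e : X.V ≃ₗ[F] Y.V, IsIso X.Q Y.Q e ∧ cj e X.g = Y.g

theorem Iso.refl (X : Tri.{u, v} F) : Iso X X :=
  ⟨LinearEquiv.refl F X.V, fun _ => rfl, by ext x; rfl⟩

theorem Iso.symm {X Y : Tri.{u, v} F} (h : Iso X Y) : Iso Y X := by
  obtain ⟨e, he, hg⟩ := h
  refine ⟨e.symm, he.symm, ?_⟩
  rw [← hg]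
  ext x
  simp [cj]

theorem Iso.trans {X Y Z : Tri.{u, v} F} (h : Iso X Y) (h' : Iso Y Z) : Iso X Z := by
  obtain ⟨e, he, hg⟩ := h
  obtain ⟨e', he', hg'⟩ := h'
  refine ⟨e.trans e', fun x => ?_, ?_⟩
  · rw [LinearEquiv.trans_apply, he', he]
  · rw [← hg', ← hg]
    ext x
    simp [cj]

/-- orthogonal sum -/
def sum (X Y : Tri.{u, v} F) : Tri.{u, v} F where
  V := X.V × Y.V
  Q := X.Q.prod Y.Q
  g := pr X.g Y.g
  nd := nondeg_prod X.nd Y.nd
  iso := pr_mem_O X.iso Y.iso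

theorem Iso.sum {X X' Y Y' : Tri.{u, v} F} (h : Iso X X') (h' : Iso Y Y') : Iso (X.sum Y) (X'.sum Y') := by
  obtain ⟨e, he, hg⟩ := h
  obtain ⟨e', he', hg'⟩ := h'
  refine ⟨(e.prodCongr e' : (X.V × Y.V) ≃ₗ[F] (X'.V × Y'.V)), fun x => ?_, ?_⟩
  · obtain ⟨x, y⟩ := x
    show X'.Q (e x) + Y'.Q (e' y) = X.Q x + Y.Q y
    rw [he, he']
  · apply LinearEquiv.ext
    rintro ⟨x, y⟩
    show (e (X.g (e.symm x)), e' (Y.g (e'.symm y))) = (X'.g x, Y'.g y)
    rw [← hg, ← hg']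
    rfl

theorem sum_comm (X Y : Tri.{u, v} F) : Iso (X.sum Y) (Y.sum X) := by
  refine ⟨(LinearEquiv.prodComm F X.V Y.V : (X.V × Y.V) ≃ₗ[F] (Y.V × X.V)), fun x => ?_, ?_⟩
  · obtain ⟨x, y⟩ := x
    show Y.Q y + X.Q x = X.Q x + Y.Q y
    rw [add_comm]
  · apply LinearEquiv.ext
    rintro ⟨x, y⟩
    rfl

theorem sum_assoc (X Y Z : Tri.{u, v} F) : Iso ((X.sum Y).sum Z) (X.sum (Y.sum Z)) := by
  refine ⟨(LinearEquiv.prodAssoc F X.V Y.V Z.V : ((X.V × Y.V) × Z.V) ≃ₗ[F] (X.V × Y.V × Z.V)), fun x => ?_, ?_⟩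
  · obtain ⟨⟨x, y⟩, z⟩ := x
    show X.Q x + (Y.Q y + Z.Q z) = X.Q x + Y.Q y + Z.Q z
    rw [add_assoc]
  · apply LinearEquiv.ext
    rintro ⟨x, y, z⟩
    rfl

theorem sum_left_comm (X Y Z : Tri.{u, v} F) : Iso (X.sum (Y.sum Z)) (Y.sum (X.sum Z)) :=
  (sum_assoc X Y Z).symm.trans (((sum_comm X Y).sum (Iso.refl Z)).trans (sum_assoc Y X Z))

/-- the dimension -/
noncomputable def n (X : Tri.{u, v} F) : ℕ := finrank F X.V

theorem Iso.n {X Y : Tri.{u, v} F} (h : Iso X Y) : X.n = Y.n := by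
  obtain ⟨e, -, -⟩ := h
  exact e.finrank_eq

theorem n_sum (X Y : Tri.{u, v} F) : (X.sum Y).n = X.n + Y.n := by
  show finrank F (X.V × Y.V) = _
  rw [finrank_prod]
  rfl

/-- the spinor sign of `-1` -/
noncomputable def m (X : Tri.{u, v} F) : ℤˣ := spin X.Q ⟨LinearEquiv.neg F, neg_mem_O X.Q⟩

theorem Iso.m {X Y : Tri.{u, v} F} (h : Iso X Y) : X.m = Y.m := by
  obtain ⟨e, he, -⟩ := h
  have h3 := spin_cj he (neg_mem_O X.Q)
  have h4 : (⟨cj e (LinearEquiv.neg F), cj_mem_O he (neg_mem_O _)⟩ : O Y.Q) = ⟨LinearEquiv.neg F, neg_mem_O Y.Q⟩ :=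
    Subtype.ext (cj_neg e)
  rw [h4] at h3
  exact h3.symm

/-- an inverting isometric involution with given determinant and spinor sign -/
def T (X : Tri.{u, v} F) (δ : Fˣ) (s : ℤˣ) : Prop := Cfsg.Agent.H721.SR.T X.Q X.g δ s

theorem T.iso {X Y : Tri.{u, v} F} {δ : Fˣ} {s : ℤˣ} (hX : X.T δ s) (h : Iso X Y) : Y.T δ s := by
  obtain ⟨e, he, hg⟩ := h
  obtain ⟨h, hO, h1, h2, h3, h4⟩ := hX
  refine ⟨cj e h, cj_mem_O he hO, ?_, ?_, by rw [det_cj, h3], by rw [spin_cj he hO, h4]⟩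
  · rw [← cj_mul, h1, cj_one]
  · have hinv : ∀ k : X.V ≃ₗ[F] X.V, (cj e k)⁻¹ = cj e k⁻¹ := fun k => (map_inv (cjEquiv e) k).symm
    rw [← hg, hinv, hinv, ← cj_mul, ← cj_mul, h2]

theorem T_neg {X : Tri.{u, v} F} {δ : Fˣ} {s : ℤˣ} (h : X.T δ s) : X.T (δ * (-1) ^ X.n) (s * X.m) := by
  obtain ⟨h, hO, h1, h2, h3, h4⟩ := h
  have hn : (LinearEquiv.neg F : X.V ≃ₗ[F] X.V) * h = h * LinearEquiv.neg F := by
    ext x
    show -(h x) = h (-x)
    rw [map_neg]
  have hn2 : (LinearEquiv.neg F : X.V ≃ₗ[F] X.V) * LinearEquiv.neg F = 1 := by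
    ext x
    show - -x = x
    rw [neg_neg]
  have hni : (LinearEquiv.neg F : X.V ≃ₗ[F] X.V)⁻¹ = LinearEquiv.neg F := inv_eq_of_mul_eq_one_left hn2
  have hng : (LinearEquiv.neg F : X.V ≃ₗ[F] X.V) * X.g = X.g * LinearEquiv.neg F := by
    ext x
    show -(X.g x) = X.g (-x)
    rw [map_neg]
  refine ⟨h * LinearEquiv.neg F, (O X.Q).mul_mem hO (neg_mem_O _), ?_, ?_, ?_, ?_⟩
  · rw [mul_assoc, ← mul_assoc _ h, hn, mul_assoc, hn2, mul_one, h1]
  · rw [mul_inv_rev, hni]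
    calc h * LinearEquiv.neg F * X.g * (LinearEquiv.neg F * h⁻¹)
        = h * (LinearEquiv.neg F * X.g) * LinearEquiv.neg F * h⁻¹ := by simp only [mul_assoc]
      _ = h * X.g * (LinearEquiv.neg F * LinearEquiv.neg F) * h⁻¹ := by rw [hng]; simp only [mul_assoc]
      _ = X.g⁻¹ := by rw [hn2, mul_one, h2]
  · rw [map_mul, h3]
    congr 1
    apply Units.ext
    rw [LinearEquiv.coe_det]
    have h : ((LinearEquiv.neg F : X.V ≃ₗ[F] X.V) : X.V →ₗ[F] X.V) = (-1 : F) • LinearMap.id := by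
      ext x
      simp
    rw [h, LinearMap.det_smul, LinearMap.det_id]
    simp [Tri.n]
  · have h5 : (⟨h * LinearEquiv.neg F, (O X.Q).mul_mem hO (neg_mem_O _)⟩ : O X.Q) =
      ⟨h, hO⟩ * ⟨LinearEquiv.neg F, neg_mem_O X.Q⟩ := rfl
    rw [h5, map_mul, h4]
    rfl

/-- the form multiplied by a scalar -/
def smul (X : Tri.{u, v} F) (c : F) (hc : c ≠ 0) : Tri.{u, v} F where
  V := X.V
  Q := c • X.Q
  g := X.g
  nd := by
    intro x hx
    apply X.nd x
    intro y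
    have h1 := hx y
    have h2 : polar (c • X.Q) x y = c * polar X.Q x y := by
      simp only [QuadraticMap.polar, smul_eq_mul, _root_.smul_apply]
      ring
    rw [h2] at h1
    exact (mul_eq_zero.1 h1).resolve_left hc
  iso := by
    intro x
    show c • X.Q (X.g x) = c • X.Q x
    rw [mem_O.1 X.iso]

theorem n_smul (X : Tri.{u, v} F) {c : F} (hc : c ≠ 0) : (X.smul c hc).n = X.n := rfl

/-- `X ⊥ X ≅ cX ⊥ cX` for a sum of two squares `c` -/
theorem double (X : Tri.{u, v} F) {c a b : F} (hc : c ≠ 0) (hab : a * a + b * b = c) :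
    Iso ((X.smul c hc).sum (X.smul c hc)) (X.sum X) := by
  obtain ⟨e, h1, h2⟩ := exists_dbl X.Q X.g hc hab
  refine ⟨e, ?_, h2⟩
  rintro ⟨x, y⟩
  exact (h1 (x, y)).trans (mul_add c (X.Q x) (X.Q y))

section Fin

variable [Finite F]

theorem T.sum (h2 : (2 : F) ≠ 0) {X Y : Tri.{u, v} F} {δ δ' : Fˣ} {s s' : ℤˣ} (hX : X.T δ s) (hY : Y.T δ' s') :
    (X.sum Y).T (δ * δ') (s * s') := by
  obtain ⟨h, hO, h1, h3, h4, h5⟩ := hX
  obtain ⟨k, kO, k1, k3, k4, k5⟩ := hY
  refine ⟨pr h k, pr_mem_O hO kO, ?_, ?_, ?_, ?_⟩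
  · show pr h k * pr h k = 1
    rw [← pr_mul, h1, k1, pr_one]
  · have hinv : ∀ (a : X.V ≃ₗ[F] X.V) (b : Y.V ≃ₗ[F] Y.V), (pr a b)⁻¹ = pr a⁻¹ b⁻¹ :=
      fun a b => (map_inv prHom (a, b)).symm
    show pr h k * pr X.g Y.g * (pr h k)⁻¹ = (pr X.g Y.g)⁻¹
    rw [hinv, hinv, ← pr_mul, ← pr_mul, h3, k3]
  · show LinearEquiv.det (pr h k) = _
    rw [det_pr, h4, k4]
  · show spin (X.Q.prod Y.Q) ⟨pr h k, _⟩ = _
    rw [spin_pr h2 X.nd Y.nd hO kO, h5, k5]

theorem m_sum (h2 : (2 : F) ≠ 0) (X Y : Tri.{u, v} F) : (X.sum Y).m = X.m * Y.m :=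
  spin_pr h2 X.nd Y.nd (neg_mem_O X.Q) (neg_mem_O Y.Q)

end Fin

section Disc

variable [Fintype F] [DecidableEq F]

/-- the class, as a sign -/
noncomputable def c (X : Tri.{u, v} F) : ℤˣ := if dc X.Q = 1 then 1 else -1

theorem coe_c (X : Tri.{u, v} F) : ((X.c : ℤˣ) : ℤ) = dc X.Q := by
  unfold c
  rcases dc_cases X.nd with h | h
  · rw [if_pos h, h]; rfl
  · rw [if_neg (by rw [h]; decide), h]; rfl

theorem Iso.c {X Y : Tri.{u, v} F} (h : Iso X Y) : X.c = Y.c := by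
  obtain ⟨e, he, -⟩ := h
  apply Units.ext
  rw [coe_c, coe_c, dc_iso he]

theorem c_sum (X Y : Tri.{u, v} F) : (X.sum Y).c = X.c * Y.c := by
  apply Units.ext
  rw [Units.val_mul, coe_c, coe_c, coe_c]
  exact dc_prod X.Q Y.Q

theorem m_even (h2 : (2 : F) ≠ 0) (X : Tri.{u, v} F) (h : Even X.n) : X.m = X.c := by
  apply Units.ext
  rw [coe_c]
  exact spin_neg_one h2 X.nd h

theorem c_smul (X : Tri.{u, v} F) (hX : Odd X.n) {d : F} (hd : d ≠ 0) (hns : ¬ IsSquare d) :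
    (X.smul d hd).c = - X.c := by
  apply Units.ext
  rw [Units.val_neg, coe_c, coe_c]
  show dc (d • X.Q) = _
  have h1 : Odd (finrank F X.V) := hX
  rw [dc_smul, quadraticChar_neg_one_iff_not_isSquare.2 hns, h1.neg_one_pow]
  ring

end Disc

end Tri

end Cfsg.Agent.H853.SR
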